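import Groth.Agent.H27Cartier.Operator

/-!
# Existence and uniqueness of the Cartier operator in degree one
-/

set_option autoImplicit false
universe u

open MvPolynomial exteriorPower

namespace Groth.Agent.H27Cartier

variable {p : ℕ} [hp : Fact p.Prime] {A B : Type u} [CommRing A] [CharP A p] [PerfectRing A p] [CommRing B]
  [Algebra A B] {n : ℕ}

omit [PerfectRing A p] in
theorem exists_pres (B : Type u) [CommRing B] [Algebra A B] [Algebra.Smooth A B] :
    ∃ n, Nonempty (Pres p A B n) := by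
  obtain ⟨n, r, hr, hfg⟩ := Algebra.FinitePresentation.out (R := A) (A := B)
  have hfg' : (RingHom.ker r).FG := hfg
  have hle : powIdeal p (RingHom.ker r) ≤ RingHom.ker r := Ideal.map_le_iff_le_comap.2 fun f hf => by
    rw [Ideal.mem_comap, frobenius_def]
    exact Ideal.pow_mem_of_mem _ hf p hp.out.pos
  let rbar : (MvPolynomial (Fin n) A ⧸ powIdeal p (RingHom.ker r)) →ₐ[A] B :=
    Ideal.Quotient.liftₐ _ r fun a ha => hle ha
  have hsurj : Function.Surjective rbar := fun b => by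
    obtain ⟨a, rfl⟩ := hr b
    exact ⟨Ideal.Quotient.mk _ a, rfl⟩
  have hker : RingHom.ker (rbar : (MvPolynomial (Fin n) A ⧸ powIdeal p (RingHom.ker r)) →+* B) =
      Ideal.map (Ideal.Quotient.mk _) (RingHom.ker r) := by
    refine le_antisymm (fun x hx => ?_) (Ideal.map_le_iff_le_comap.2 fun a ha => ha)
    obtain ⟨a, rfl⟩ := Ideal.Quotient.mk_surjective x
    exact Ideal.mem_map_of_mem _ hx
  have hnil : IsNilpotent (RingHom.ker (rbar : (MvPolynomial (Fin n) A ⧸ powIdeal p (RingHom.ker r)) →+* B)) := by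
    rw [hker, Ideal.FG.isNilpotent_iff_le_nilradical (hfg'.map _), Ideal.map_le_iff_le_comap]
    intro f hf
    refine ⟨p, ?_⟩
    rw [← map_pow]
    exact Ideal.Quotient.eq_zero_iff_mem.2 (pow_mem_powIdeal hf)
  refine ⟨n, ⟨r, Algebra.FormallySmooth.liftOfSurjective (AlgHom.id A B) rbar hsurj hnil, fun b G hG => ?_⟩⟩
  have h := Algebra.FormallySmooth.liftOfSurjective_apply (AlgHom.id A B) rbar hsurj hnil b
  rw [← hG] at h
  exact h

omit [PerfectRing A p] in
/-- In a polynomial ring, `G^(p-1) dG` is `(∂G)^p x^(p-1) dx` up to an exact form. -/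
theorem exists_norm_exact (G : MvPolynomial (Fin n) A) :
    ∃ h : MvPolynomial (Fin n) A, ∀ l, G ^ (p - 1) * pderiv l G =
      pderiv l h + pderiv l G ^ p * MvPolynomial.X l ^ (p - 1) := by
  classical
  let δ : Derivation A (MvPolynomial (Fin n) A) (Fin n → MvPolynomial (Fin n) A) :=
    MvPolynomial.mkDerivation A fun i => (Pi.single i 1 : Fin n → MvPolynomial (Fin n) A)
  have hδ : ∀ g l, δ g l = pderiv l g := fun g l => by
    refine DFunLike.congr_fun (MvPolynomial.derivation_ext (D₁ := (LinearMap.proj l).compDer δ)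
      (D₂ := pderiv l) fun i => ?_) g
    simp [δ, pderiv_X, Pi.single_comm, Pi.single_apply, eq_comm]
  letI := moduleBase p δ
  haveI := isScalarTower_base p δ
  let e : Fin n → CMod p δ := fun i => cls p δ ((MvPolynomial.X i : MvPolynomial (Fin n) A) ^ (p - 1) • (Pi.single i 1 : Fin n → MvPolynomial (Fin n) A))
  let L : (Fin n → MvPolynomial (Fin n) A) →ₗ[MvPolynomial (Fin n) A] CMod p δ :=
    Fintype.linearCombination (MvPolynomial (Fin n) A) e
  have hD : L.compDer δ = inverseCartier p δ := by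
    refine MvPolynomial.derivation_ext fun i => ?_
    rw [inverseCartier_apply]
    show L (δ (MvPolynomial.X i)) = _
    rw [show δ (MvPolynomial.X i) = Pi.single i 1 from MvPolynomial.mkDerivation_X A _ i,
      Fintype.linearCombination_apply_single, one_smul]
  have h : L (δ G) = cls p δ (G ^ (p - 1) • δ G) := DFunLike.congr_fun hD G
  simp only [L, Fintype.linearCombination_apply, e, ← cls_smul, ← cls_sum] at h
  obtain ⟨q, hq⟩ := (mem_exact δ).1 ((Submodule.Quotient.eq _).1 h.symm)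
  refine ⟨q, fun l => ?_⟩
  have hl : (∑ i, δ G i ^ p • ((MvPolynomial.X i : MvPolynomial (Fin n) A) ^ (p - 1) • (Pi.single i 1 : Fin n → MvPolynomial (Fin n) A))) l =
      δ G l ^ p * MvPolynomial.X l ^ (p - 1) := by
    rw [Finset.sum_apply, Finset.sum_eq_single l (fun i _ hi => by simp [Pi.single_eq_of_ne hi.symm]) (by simp)]
    simp
  have hq' : δ q l = G ^ (p - 1) * δ G l - δ G l ^ p * MvPolynomial.X l ^ (p - 1) := by
    rw [← hl, hq]
    rfl
  rw [hδ, hδ] at hq'
  rw [hq']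
  ring

variable (X : Pres p A B n)

namespace Pres

/-- `η` decomposes as `dh + g^p x^(p-1) dx` along the section. -/
def IsDec (η : Ω[B⁄A]) (h : MvPolynomial (Fin n) A) (g : Fin n → MvPolynomial (Fin n) A) : Prop :=
  ∀ l, X.coef η l = Ideal.Quotient.mk _ (pderiv l h + g l ^ p * MvPolynomial.X l ^ (p - 1))

/-- The value attached to a decomposition. -/
noncomputable def val (g : Fin n → MvPolynomial (Fin n) A) : Ω[B⁄A] :=
  ∑ i, X.r (g i) • KaehlerDifferential.D A B (X.y i)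

theorem val_eq_of_isDec {η : Ω[B⁄A]} {h h' : MvPolynomial (Fin n) A} {g g' : Fin n → MvPolynomial (Fin n) A}
    (H : X.IsDec η h g) (H' : X.IsDec η h' g') : X.val g = X.val g' := by
  refine Finset.sum_congr rfl fun l _ => ?_
  congr 1
  rw [← sub_eq_zero, ← map_sub]
  refine mem_of_exact (p := p) (I := RingHom.ker X.r) (h' - h) (fun i => g i - g' i) l ?_
  have := Ideal.Quotient.eq.1 ((H l).symm.trans (H' l))
  convert this using 1
  rw [sub_pow_char, map_sub]
  ring

theorem isDec_D (b : B) : ∃ G, X.IsDec (KaehlerDifferential.D A B b) G 0 := by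
  obtain ⟨G, hG, -⟩ := X.exists_lift b
  refine ⟨G, fun l => ?_⟩
  rw [X.coef_D, ← hG, pd_mk]
  simp [zero_pow hp.out.ne_zero]

variable {X} in
theorem IsDec.add {η η' : Ω[B⁄A]} {h h' : MvPolynomial (Fin n) A} {g g' : Fin n → MvPolynomial (Fin n) A}
    (H : X.IsDec η h g) (H' : X.IsDec η' h' g') : X.IsDec (η + η') (h + h') (g + g') := fun l => by
  rw [X.coef_add, H l, H' l, ← map_add]
  congr 1
  simp only [map_add, Pi.add_apply, add_pow_char]
  ring

variable {X} in
theorem IsDec.pow_smul {η : Ω[B⁄A]} {h : MvPolynomial (Fin n) A} {g : Fin n → MvPolynomial (Fin n) A}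
    (H : X.IsDec η h g) {b : B} {G : MvPolynomial (Fin n) A} (hG : Ideal.Quotient.mk _ G = X.s b) :
    X.IsDec (b ^ p • η) (G ^ p * h) (fun i => G * g i) := fun l => by
  rw [X.coef_smul, H l, map_pow, ← hG, ← map_pow, ← map_mul]
  congr 1
  simp only [pderiv_pow_mul, mul_pow]
  ring

variable {X} in
theorem IsDec.eq_sum {η : Ω[B⁄A]} {h : MvPolynomial (Fin n) A} {g : Fin n → MvPolynomial (Fin n) A}
    (H : X.IsDec η h g) : η = KaehlerDifferential.D A B (X.r h) +
      ∑ i, X.r (g i) ^ p • (X.y i ^ (p - 1) • KaehlerDifferential.D A B (X.y i)) := by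
  conv_lhs => rw [X.eq_sum η _ fun i => (H i).symm]
  rw [X.D_r, ← Finset.sum_add_distrib]
  refine Finset.sum_congr rfl fun i _ => ?_
  rw [map_add, add_smul, map_mul, map_pow, map_pow, mul_smul]
  rfl

variable [CharP B p]

variable {X} in
theorem IsDec.exact_of_val_eq_zero {η : Ω[B⁄A]} {h : MvPolynomial (Fin n) A} {g : Fin n → MvPolynomial (Fin n) A}
    (H : X.IsDec η h g) (h0 : X.val g = 0) : ∃ b, KaehlerDifferential.D A B b = η := by
  letI := moduleBase p (KaehlerDifferential.D A B)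
  haveI := isScalarTower_base p (KaehlerDifferential.D A B)
  let L := (inverseCartier p (KaehlerDifferential.D A B)).liftKaehlerDifferential
  have h1 : L (X.val g) = 0 := by rw [h0, map_zero]
  simp only [val, map_sum, LinearMap.map_smul, L, Derivation.liftKaehlerDifferential_comp_D, inverseCartier_apply,
    ← cls_smul, ← cls_sum] at h1
  obtain ⟨b, hb⟩ := (cls_eq_zero _ _).1 h1
  exact ⟨X.r h + b, by rw [map_add, hb]; exact H.eq_sum.symm⟩

end Pres

variable (d : ∀ q : ℕ, ↥(⋀[B]^q (Ω[B⁄A])) →ₗ[A] ↥(⋀[B]^(q + 1) (Ω[B⁄A])))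
  (hd : DeRham.IsDiff (KaehlerDifferential.D A B) d)

omit [PerfectRing A p] in
include hd in
theorem oneEquiv_d0 (f : B) :
    oneEquiv B _ (d 0 ((zeroEquiv B (Ω[B⁄A])).symm f)) = KaehlerDifferential.D A B f := by
  have h0 : (zeroEquiv B (Ω[B⁄A])).symm f = DeRham.gen (KaehlerDifferential.D A B) 0 f ![] := by
    rw [LinearEquiv.symm_apply_eq, DeRham.gen, map_smul, zeroEquiv_ιMulti, smul_eq_mul, mul_one]
  rw [h0, hd.1, oneEquiv_ιMulti]
  rfl

omit [PerfectRing A p] in
include hd in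
theorem mem_coboundaries_one_iff (ω : ↥(⋀[B]^1 (Ω[B⁄A]))) :
    ω ∈ DeRham.coboundaries d 1 ↔ ∃ b, KaehlerDifferential.D A B b = oneEquiv B _ ω := by
  constructor
  · rintro ⟨z, rfl⟩
    exact ⟨zeroEquiv B _ z, by rw [← oneEquiv_d0 d hd, LinearEquiv.symm_apply_apply]⟩
  · rintro ⟨b, hb⟩
    exact ⟨(zeroEquiv B _).symm b, (oneEquiv B _).injective ((oneEquiv_d0 d hd b).trans hb)⟩

include hd in
theorem exists_isDec (ω : ↥(DeRham.cocycles d 1)) : ∃ h g, X.IsDec (oneEquiv B _ ω.1) h g := by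
  choose c hc using fun i => Ideal.Quotient.mk_surjective (X.coef (oneEquiv B _ ω.1) i)
  obtain ⟨h, g, hg⟩ := exists_decomp (p := p) c fun i j => by
    have h0 := X.two_d d hd j i ω.1
    rw [show d 1 ω.1 = 0 from ω.2, X.two_zero, ← hc, ← hc, pd_mk, pd_mk, ← map_sub] at h0
    exact Ideal.Quotient.eq_zero_iff_mem.1 h0.symm
  refine ⟨h, g, fun l => ?_⟩
  rw [← hc]
  refine Ideal.Quotient.eq.2 ?_
  rw [← sub_sub]
  exact hg l

include hd in
theorem cocycle_smul (ω : ↥(DeRham.cocycles d 1)) (b : B) : d 1 (b ^ p • ω.1) = b ^ p • d 1 ω.1 := by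
  refine H27DR.gen_induction (KaehlerDifferential.D A B) (H27DR.kaehler_span A B) 1
    (P := fun x => d 1 (b ^ p • x) = b ^ p • d 1 x) ?_ (by simp)
    (fun x y hx hy => by rw [smul_add, map_add, map_add, smul_add, hx, hy]) ω.1
  intro b₀ c
  rw [DeRham.gen, smul_smul, ← DeRham.gen, ← DeRham.gen, hd.1, hd.1, derivation_pow_smul p]
  exact (ιMulti B 2).toMultilinearMap.cons_smul _ _ _

include hd in
theorem existsUnique_cartier [Algebra.Smooth A B] :
    ∃! C : ↥(DeRham.cocycles d 1) →+ ↥(⋀[B]^1 (Ω[B⁄A])),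
      (∀ (f : B) (ω ω' : ↥(DeRham.cocycles d 1)),
          (ω' : ↥(⋀[B]^1 (Ω[B⁄A]))) = f ^ p • (ω : ↥(⋀[B]^1 (Ω[B⁄A]))) → C ω' = f • C ω) ∧
      (∀ ω : ↥(DeRham.cocycles d 1), C ω = 0 ↔ (ω : ↥(⋀[B]^1 (Ω[B⁄A]))) ∈ DeRham.coboundaries d 1) ∧
      (∀ (f : B) (ω : ↥(DeRham.cocycles d 1)),
          (ω : ↥(⋀[B]^1 (Ω[B⁄A]))) = f ^ (p - 1) • d 0 ((exteriorPower.zeroEquiv B (Ω[B⁄A])).symm f) →
            C ω = d 0 ((exteriorPower.zeroEquiv B (Ω[B⁄A])).symm f)) := by
  rcases subsingleton_or_nontrivial B with hB | hB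
  · haveI : Subsingleton ↥(⋀[B]^1 (Ω[B⁄A])) := Module.subsingleton B _
    exact ⟨0, ⟨fun _ _ _ _ => Subsingleton.elim _ _,
      fun ω => iff_of_true (Subsingleton.elim _ _) ((Subsingleton.elim (0 : ↥(⋀[B]^1 (Ω[B⁄A]))) ω.1) ▸ zero_mem _),
      fun _ _ _ => Subsingleton.elim _ _⟩, fun _ _ => AddMonoidHom.ext fun _ => Subsingleton.elim _ _⟩
  haveI : CharP B p := (CharP.charP_iff_prime_eq_zero hp.out).2 (natCast_p_eq_zero p (A := A))
  obtain ⟨n, ⟨X⟩⟩ := exists_pres (p := p) (A := A) B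
  choose h g hhg using exists_isDec X d hd
  let C : ↥(DeRham.cocycles d 1) →+ ↥(⋀[B]^1 (Ω[B⁄A])) :=
    AddMonoidHom.mk' (fun ω => (oneEquiv B _).symm (X.val (g ω))) fun ω ω' => by
      show (oneEquiv B _).symm _ = (oneEquiv B _).symm _ + (oneEquiv B _).symm _
      rw [← map_add]
      congr 1
      have H := (hhg ω).add (hhg ω')
      rw [← map_add, ← Submodule.coe_add] at H
      rw [X.val_eq_of_isDec (hhg (ω + ω')) H]
      simp [Pres.val, add_smul, Finset.sum_add_distrib]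
  have hC : ∀ ω : ↥(DeRham.cocycles d 1), ∀ h' g', X.IsDec (oneEquiv B _ ω.1) h' g' →
      C ω = (oneEquiv B _).symm (X.val g') := fun ω h' g' H =>
    congrArg (oneEquiv B _).symm (X.val_eq_of_isDec (hhg ω) H)
  have hnorm : ∀ (f : B) (ω : ↥(DeRham.cocycles d 1)),
      (ω : ↥(⋀[B]^1 (Ω[B⁄A]))) = f ^ (p - 1) • d 0 ((exteriorPower.zeroEquiv B (Ω[B⁄A])).symm f) →
        C ω = d 0 ((exteriorPower.zeroEquiv B (Ω[B⁄A])).symm f) := by
    intro f ω hω
    obtain ⟨G, hG, hGr⟩ := X.exists_lift f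
    obtain ⟨q, hq⟩ := exists_norm_exact (p := p) G
    have H : X.IsDec (oneEquiv B _ ω.1) q (fun l => pderiv l G) := fun l => by
      rw [hω, map_smul, oneEquiv_d0 d hd, X.coef_smul, X.coef_D, map_pow, ← hG, pd_mk, ← map_pow, ← map_mul, hq l]
    rw [hC ω _ _ H, LinearEquiv.symm_apply_eq, oneEquiv_d0 d hd, Pres.val, ← X.D_r, hGr]
  refine ⟨C, ⟨fun f ω ω' hω => ?_, fun ω => ⟨fun h0 => ?_, fun hex => ?_⟩, hnorm⟩, ?_⟩
  · obtain ⟨G, hG, hGr⟩ := X.exists_lift f
    have H := (hhg ω).pow_smul hG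
    rw [← map_smul, ← hω] at H
    rw [hC ω' _ _ H]
    show (oneEquiv B _).symm _ = f • (oneEquiv B _).symm (X.val (g ω))
    rw [← map_smul]
    congr 1
    simp [Pres.val, hGr, Finset.smul_sum, mul_smul]
  · refine (mem_coboundaries_one_iff d hd ω.1).2 ((hhg ω).exact_of_val_eq_zero ?_)
    exact (oneEquiv B _).symm.injective (h0.trans (map_zero _).symm)
  · obtain ⟨b, hb⟩ := (mem_coboundaries_one_iff d hd ω.1).1 hex
    obtain ⟨G, H⟩ := X.isDec_D b
    rw [hb] at H
    rw [hC ω _ _ H]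
    simp [Pres.val]
  · rintro C' ⟨h1, h2, h3⟩
    refine AddMonoidHom.ext fun ω => ?_
    -- decompose `ω` into closed pieces
    let t : Fin n → ↥(⋀[B]^1 (Ω[B⁄A])) := fun i =>
      X.y i ^ (p - 1) • d 0 ((exteriorPower.zeroEquiv B (Ω[B⁄A])).symm (X.y i))
    have ht : ∀ i, t i ∈ DeRham.cocycles d 1 := fun i => by
      show d 1 (t i) = 0
      have e : t i = DeRham.gen (KaehlerDifferential.D A B) 1 (X.y i ^ (p - 1)) ![X.y i] := by
        apply (oneEquiv B _).injective
        rw [map_smul, oneEquiv_d0 d hd, DeRham.gen, map_smul, oneEquiv_ιMulti]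
        rfl
      rw [e, hd.1]
      let v : Fin 2 → Ω[B⁄A] := ![KaehlerDifferential.D A B (X.y i), KaehlerDifferential.D A B (X.y i)]
      have hv : (Fin.cons (KaehlerDifferential.D A B (X.y i ^ (p - 1)))
          (fun j => KaehlerDifferential.D A B (![X.y i] j)) : Fin 2 → Ω[B⁄A]) =
          Function.update v 0 (((p - 1 : ℕ) * X.y i ^ (p - 1 - 1) : B) • KaehlerDifferential.D A B (X.y i)) := by
        funext j
        fin_cases j
        · simp [v, Derivation.leibniz_pow, ← Nat.cast_smul_eq_nsmul B, smul_smul]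
        · simp [v]
      rw [hv, AlternatingMap.map_update_smul, AlternatingMap.map_eq_zero_of_eq _ _ (i := 0) (j := 1) (by simp [v])
        (by decide), smul_zero]
    have htb : ∀ i, X.r (g ω i) ^ p • t i ∈ DeRham.cocycles d 1 := fun i => by
      show d 1 _ = 0
      rw [cocycle_smul (p := p) d hd ⟨t i, ht i⟩, show d 1 (t i) = 0 from ht i, smul_zero]
    have hex : d 0 ((zeroEquiv B _).symm (X.r (h ω))) ∈ DeRham.cocycles d 1 := LinearMap.congr_fun (hd.2 0) _
    have hω : ω = ⟨_, hex⟩ + ∑ i, (⟨_, htb i⟩ : ↥(DeRham.cocycles d 1)) := by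
      apply Subtype.ext
      apply (oneEquiv B _).injective
      conv_lhs => rw [(hhg ω).eq_sum]
      simp [t, oneEquiv_d0 d hd, map_smul, map_sum]
    conv_lhs => rw [hω]
    rw [map_add, (h2 ⟨_, hex⟩).2 ⟨_, rfl⟩, zero_add, map_sum]
    show _ = (oneEquiv B _).symm (X.val (g ω))
    rw [Pres.val, map_sum]
    refine Finset.sum_congr rfl fun i _ => ?_
    rw [h1 (X.r (g ω i)) ⟨t i, ht i⟩ ⟨_, htb i⟩ rfl, h3 (X.y i) ⟨t i, ht i⟩ rfl, map_smul]
    congr 1
    rw [LinearEquiv.eq_symm_apply, oneEquiv_d0 d hd]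

end Groth.Agent.H27Cartier
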