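import Mathlib

/-!
# The inverse Cartier operator in degree one

For an algebra `B` over a ring `A` of characteristic `p` and a derivation `δ : B → N`, the map
`g ↦ g^(p-1) δ g` is a derivation into `N / δ B`, twisted by Frobenius.
-/

set_option autoImplicit false
universe u

namespace Groth.Agent.H27Cartier

theorem exists_add_pow_identity (p : ℕ) [hp : Fact p.Prime] :
    ∃ q : MvPolynomial (Fin 2) ℤ, ∀ i : Fin 2,
      MvPolynomial.pderiv i q = ((MvPolynomial.X 0 : MvPolynomial (Fin 2) ℤ) + MvPolynomial.X 1) ^ (p - 1) - MvPolynomial.X i ^ (p - 1) := by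
  let X₀ : MvPolynomial (Fin 2) ℤ := MvPolynomial.X 0
  let X₁ : MvPolynomial (Fin 2) ℤ := MvPolynomial.X 1
  refine ⟨∑ k ∈ Finset.Ioo 0 p, ((p.choose k / p : ℕ) : MvPolynomial (Fin 2) ℤ) * X₀ ^ k * X₁ ^ (p - k), fun i => ?_⟩
  set q := ∑ k ∈ Finset.Ioo 0 p, ((p.choose k / p : ℕ) : MvPolynomial (Fin 2) ℤ) * X₀ ^ k * X₁ ^ (p - k) with hq
  have hmul : (p : MvPolynomial (Fin 2) ℤ) * q = (X₀ + X₁) ^ p - X₀ ^ p - X₁ ^ p := by
    rw [hq, Finset.mul_sum, add_pow]
    have hr : Finset.range (p + 1) = insert 0 (insert p (Finset.Ioo 0 p)) := by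
      ext k; simp; omega
    rw [hr, Finset.sum_insert (by simp [hp.out.ne_zero.symm]), Finset.sum_insert (by simp)]
    simp only [pow_zero, Nat.sub_zero, Nat.choose_zero_right, Nat.cast_one, mul_one, one_mul, Nat.sub_self,
      Nat.choose_self]
    rw [show ∀ a b c : MvPolynomial (Fin 2) ℤ, b + (a + c) - a - b = c from fun a b c => by ring]
    refine Finset.sum_congr rfl fun k hk => ?_
    rw [Finset.mem_Ioo] at hk
    obtain ⟨t, ht⟩ := hp.out.dvd_choose_self (by omega) hk.2
    rw [ht, Nat.mul_div_cancel_left _ hp.out.pos]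
    push_cast
    ring
  have h := congrArg (MvPolynomial.pderiv i) hmul
  apply mul_left_cancel₀ (Nat.cast_ne_zero.2 hp.out.ne_zero : (p : MvPolynomial (Fin 2) ℤ) ≠ 0)
  simp only [Derivation.leibniz, Derivation.map_natCast, smul_eq_mul, mul_zero, add_zero, map_sub, map_add,
    Derivation.leibniz_pow, nsmul_eq_mul, X₀, X₁, MvPolynomial.pderiv_X] at h
  rw [h]
  fin_cases i <;> simp <;> ring

variable (p : ℕ) [hp : Fact p.Prime] {A B N : Type u} [CommRing A] [CommRing B] [Algebra A B] [CharP A p]
  [AddCommGroup N] [Module B N] [Module A N] [IsScalarTower A B N] (δ : Derivation A B N)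

theorem natCast_p_eq_zero (p : ℕ) {A B : Type u} [CommRing A] [CommRing B] [Algebra A B] [CharP A p] :
    (p : B) = 0 := by
  rw [← map_natCast (algebraMap A B), CharP.cast_eq_zero, map_zero]

theorem derivation_pow_p (g : B) : δ (g ^ p) = 0 := by
  rw [Derivation.leibniz_pow, ← Nat.cast_smul_eq_nsmul B, natCast_p_eq_zero p (A := A), zero_smul]

theorem derivation_pow_smul (g : B) (h : B) : δ (g ^ p * h) = g ^ p • δ h := by
  rw [Derivation.leibniz, derivation_pow_p, smul_zero, add_zero]

theorem exists_add_exact (f g : B) :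
    ∃ q : B, (f + g) ^ (p - 1) • δ (f + g) - f ^ (p - 1) • δ f - g ^ (p - 1) • δ g = δ q := by
  obtain ⟨q, hq⟩ := exists_add_pow_identity p
  refine ⟨MvPolynomial.aeval ![f, g] q, ?_⟩
  have hchain : ∀ Q : MvPolynomial (Fin 2) ℤ, δ (MvPolynomial.aeval ![f, g] Q) =
      MvPolynomial.aeval ![f, g] (MvPolynomial.pderiv 0 Q) • δ f +
        MvPolynomial.aeval ![f, g] (MvPolynomial.pderiv 1 Q) • δ g := by
    intro Q
    induction Q using MvPolynomial.induction_on with
    | C a =>
      rw [MvPolynomial.pderiv_C, MvPolynomial.pderiv_C, map_zero, zero_smul, zero_smul, add_zero]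
      simp
    | add P Q hP hQ => simp only [map_add, hP, hQ, add_smul]; abel
    | mul_X P i hP =>
      simp only [map_mul, MvPolynomial.aeval_X, Derivation.leibniz, hP, MvPolynomial.pderiv_X, smul_eq_mul,
        map_add, add_smul, mul_smul, smul_add]
      fin_cases i <;> simp <;> abel
  rw [hchain, hq, hq]
  simp only [map_sub, map_pow, map_add, MvPolynomial.aeval_X, Matrix.cons_val_zero, Matrix.cons_val_one,
    Matrix.cons_val_fin_one, sub_smul, smul_add]
  abel

/-- Exact elements. -/
def exact : AddSubgroup N := δ.toLinearMap.toAddMonoidHom.range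

theorem mem_exact {m : N} : m ∈ exact δ ↔ ∃ h, δ h = m := Iff.rfl

theorem pow_smul_mem_exact (f : B) {m : N} (hm : m ∈ exact δ) : f ^ p • m ∈ exact δ := by
  obtain ⟨h, rfl⟩ := (mem_exact δ).1 hm
  exact ⟨f ^ p * h, derivation_pow_smul p δ f h⟩

/-- The module `N` with scalars acting through Frobenius. -/
@[nolint unusedArguments]
def Tw (_ : ℕ) (N : Type u) : Type u := N

instance : AddCommGroup (Tw p N) := inferInstanceAs (AddCommGroup N)

/-- The identification. -/
def toTw : N ≃+ Tw p N := AddEquiv.refl N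

variable [CharP B p]

instance instModuleTw : Module B (Tw p N) :=
  Module.compHom N (frobenius B p)

theorem toTw_smul (f : B) (m : N) : f • toTw p m = toTw p (f ^ p • m) := rfl

/-- Exact elements as a submodule for the twisted action. -/
def exactTw : Submodule B (Tw p N) where
  carrier := {m | m ∈ exact δ}
  add_mem' := (exact δ).add_mem
  zero_mem' := (exact δ).zero_mem
  smul_mem' f _ hm := pow_smul_mem_exact p δ f hm

/-- Forms modulo exact forms, with Frobenius twisted scalars. -/
abbrev CMod : Type u := Tw p N ⧸ exactTw p δ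

/-- The class. -/
def cls (m : N) : CMod p δ := Submodule.Quotient.mk (toTw p m)

theorem cls_eq_zero {m : N} : cls p δ m = 0 ↔ ∃ h, δ h = m :=
  (Submodule.Quotient.mk_eq_zero _).trans (mem_exact δ)

theorem cls_add (m m' : N) : cls p δ (m + m') = cls p δ m + cls p δ m' := rfl

theorem cls_smul (f : B) (m : N) : cls p δ (f ^ p • m) = f • cls p δ m := rfl

theorem cls_sum {ι : Type*} (s : Finset ι) (m : ι → N) : cls p δ (∑ i ∈ s, m i) = ∑ i ∈ s, cls p δ (m i) :=
  map_sum (AddMonoidHom.mk' (cls p δ) (cls_add p δ)) m s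

/-- The constants act through Frobenius as well. -/
@[implicit_reducible]
def moduleBase : Module A (CMod p δ) := Module.compHom (CMod p δ) (algebraMap A B)

theorem isScalarTower_base :
    @IsScalarTower A B (CMod p δ) _ _ (moduleBase p δ).toSMul := by
  letI := moduleBase p δ
  refine ⟨fun a b x => ?_⟩
  show (a • b) • x = algebraMap A B a • b • x
  rw [Algebra.smul_def, mul_smul]

/-- The derivation `g ↦ g^(p-1) δ g` modulo exact elements. -/
def inverseCartier : letI := moduleBase p δ; Derivation A B (CMod p δ) :=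
  letI := moduleBase p δ
  { toFun := fun g => cls p δ (g ^ (p - 1) • δ g)
    map_add' := fun f g => by
      rw [← cls_add]
      apply (Submodule.Quotient.eq _).2
      obtain ⟨q, hq⟩ := exists_add_exact p δ f g
      refine (mem_exact δ).2 ⟨q, ?_⟩
      rw [← hq, sub_sub]
      rfl
    map_smul' := fun a g => by
      show _ = algebraMap A B a • cls p δ (g ^ (p - 1) • δ g)
      rw [← cls_smul, Derivation.map_smul, Algebra.smul_def, mul_pow, ← algebraMap_smul B a (δ g), smul_smul,
        smul_smul]
      congr 2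
      rw [← pow_sub_one_mul hp.out.ne_zero (algebraMap A B a)]
      ring
    map_one_eq_zero' := by
      show cls p δ _ = 0
      rw [Derivation.map_one_eq_zero, smul_zero]
      exact (cls_eq_zero p δ).2 ⟨0, map_zero _⟩
    leibniz' := fun f g => by
      show cls p δ _ = f • cls p δ (g ^ (p - 1) • δ g) + g • cls p δ (f ^ (p - 1) • δ f)
      rw [← cls_smul, ← cls_smul, ← cls_add, Derivation.leibniz, smul_add, smul_smul, smul_smul, smul_smul,
        smul_smul, mul_pow]
      congr 3
      · rw [← pow_sub_one_mul hp.out.ne_zero f]; ring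
      · rw [← pow_sub_one_mul hp.out.ne_zero g]; ring }

theorem inverseCartier_apply (g : B) : inverseCartier p δ g = cls p δ (g ^ (p - 1) • δ g) := rfl

end Groth.Agent.H27Cartier
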