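import Groth.Agent.H27Cartier.Poly
import Groth.Agent.H27Cartier.Twist
import Groth.Agent.H27DR.Basic

/-!
# The Cartier operator in degree one of a smooth algebra over a perfect ring

A smooth algebra `B` is a retract of `P / I^{[p]}` for a polynomial ring `P` and the kernel `I` of a
presentation, and over `P / I^{[p]}` closed one-forms are computed by monomials.
-/

set_option autoImplicit false
universe u

open MvPolynomial exteriorPower

namespace Groth.Agent.H27Cartier

variable {p : ℕ} [hp : Fact p.Prime] {A B : Type u} [CommRing A] [CharP A p] [CommRing B] [Algebra A B] {n : ℕ}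


variable {I : Ideal (MvPolynomial (Fin n) A)}

variable (p I) in
/-- `P / I^{[p]}`. -/
abbrev Q : Type u := (MvPolynomial (Fin n) A) ⧸ powIdeal p I

variable (p I) in
/-- The partial derivatives on `P / I^{[p]}`. -/
noncomputable def pd (i : Fin n) : Q p I →ₗ[A] Q p I :=
  Submodule.liftQ ((powIdeal p I).restrictScalars A)
    ((Ideal.Quotient.mkₐ A (powIdeal p I)).toLinearMap.comp (pderiv i).toLinearMap)
    fun _ hc => Ideal.Quotient.eq_zero_iff_mem.2 (pderiv_mem_powIdeal i hc) |>.trans rfl |> id

theorem pd_mk (i : Fin n) (c : (MvPolynomial (Fin n) A)) : pd p I i (Ideal.Quotient.mk _ c) = Ideal.Quotient.mk _ (pderiv i c) := rfl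

theorem pd_mul (i : Fin n) (x y : Q p I) : pd p I i (x * y) = x * pd p I i y + y * pd p I i x := by
  obtain ⟨a, rfl⟩ := Ideal.Quotient.mk_surjective x
  obtain ⟨b, rfl⟩ := Ideal.Quotient.mk_surjective y
  rw [← map_mul, pd_mk, pd_mk, pd_mk, Derivation.leibniz, map_add, smul_eq_mul, smul_eq_mul, map_mul, map_mul]

theorem pd_comm (i j : Fin n) (x : Q p I) : pd p I i (pd p I j x) = pd p I j (pd p I i x) := by
  obtain ⟨a, rfl⟩ := Ideal.Quotient.mk_surjective x
  rw [pd_mk, pd_mk, pd_mk, pd_mk, pderiv_comm]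

/-- A presentation with a section modulo `p`-th powers of the kernel. -/
structure Pres (p : ℕ) [Fact p.Prime] (A B : Type u) [CommRing A] [CharP A p] [CommRing B] [Algebra A B] (n : ℕ) where
  r : MvPolynomial (Fin n) A →ₐ[A] B
  s : B →ₐ[A] MvPolynomial (Fin n) A ⧸ powIdeal p (RingHom.ker r)
  hs : ∀ (b : B) (G : MvPolynomial (Fin n) A), Ideal.Quotient.mk _ G = s b → r G = b

variable (X : Pres p A B n)

namespace Pres

theorem exists_lift (b : B) : ∃ G : (MvPolynomial (Fin n) A), Ideal.Quotient.mk _ G = X.s b ∧ X.r G = b := by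
  obtain ⟨G, hG⟩ := Ideal.Quotient.mk_surjective (X.s b)
  exact ⟨G, hG, X.hs b G hG⟩

/-- The coordinates. -/
noncomputable def y (i : Fin n) : B := X.r (MvPolynomial.X i)

/-- The derivative along the section. -/
noncomputable def grad : letI := X.s.toRingHom.toAlgebra; Derivation A B (Fin n → Q p (RingHom.ker X.r)) :=
  letI := X.s.toRingHom.toAlgebra
  { toFun := fun b i => pd p _ i (X.s b)
    map_add' := fun a b => by funext i; simp [map_add]
    map_smul' := fun a b => by funext i; simp [map_smul]
    map_one_eq_zero' := by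
      funext i
      show pd p _ i (X.s 1) = 0
      rw [map_one, ← map_one (Ideal.Quotient.mk (powIdeal p (RingHom.ker X.r))), pd_mk]
      simp
    leibniz' := fun a b => by
      funext i
      show pd p _ i (X.s (a * b)) = X.s a * pd p _ i (X.s b) + X.s b * pd p _ i (X.s a)
      rw [map_mul, pd_mul] }

/-- The coefficient vector of a form along the section. -/
noncomputable def coef : Ω[B⁄A] → Fin n → Q p (RingHom.ker X.r) :=
  letI := X.s.toRingHom.toAlgebra
  haveI : IsScalarTower A B (Q p (RingHom.ker X.r)) := IsScalarTower.of_algebraMap_eq fun a => (X.s.commutes a).symm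
  fun η => X.grad.liftKaehlerDifferential η

theorem coef_add (η θ : Ω[B⁄A]) (i : Fin n) : X.coef (η + θ) i = X.coef η i + X.coef θ i := by
  simp [coef]

theorem coef_zero (i : Fin n) : X.coef 0 i = 0 := by
  simp [coef]

theorem coef_smul (b : B) (η : Ω[B⁄A]) (i : Fin n) : X.coef (b • η) i = X.s b * X.coef η i := by
  letI := X.s.toRingHom.toAlgebra
  haveI : IsScalarTower A B (Q p (RingHom.ker X.r)) := IsScalarTower.of_algebraMap_eq fun a => (X.s.commutes a).symm
  show X.grad.liftKaehlerDifferential (b • η) i = _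
  rw [LinearMap.map_smul]
  rfl

theorem coef_D (b : B) (i : Fin n) : X.coef (KaehlerDifferential.D A B b) i = pd p _ i (X.s b) := by
  letI := X.s.toRingHom.toAlgebra
  haveI : IsScalarTower A B (Q p (RingHom.ker X.r)) := IsScalarTower.of_algebraMap_eq fun a => (X.s.commutes a).symm
  show X.grad.liftKaehlerDifferential _ i = _
  rw [Derivation.liftKaehlerDifferential_comp_D]
  rfl

/-- The chain rule along the presentation. -/
theorem D_r (G : (MvPolynomial (Fin n) A)) : KaehlerDifferential.D A B (X.r G) =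
    ∑ i, X.r (pderiv i G) • KaehlerDifferential.D A B (X.y i) := by
  induction G using MvPolynomial.induction_on with
  | C a =>
    rw [show MvPolynomial.C a = algebraMap A (MvPolynomial (Fin n) A) a from rfl, AlgHom.commutes, Derivation.map_algebraMap]
    simp
  | add F G hF hG => simp only [map_add, hF, hG, add_smul, Finset.sum_add_distrib]
  | mul_X F j hF =>
    simp only [map_mul, Derivation.leibniz, hF, map_add, add_smul, Finset.sum_add_distrib, Finset.smul_sum,
      smul_eq_mul, mul_smul, pderiv_X]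
    congr 1
    rw [Finset.sum_eq_single j (fun i _ hi => by simp [Pi.single_eq_of_ne hi.symm]) (by simp)]
    simp [y]

/-- A form is recovered from any lift of its coefficients. -/
theorem eq_sum (η : Ω[B⁄A]) : ∀ c : Fin n → (MvPolynomial (Fin n) A), (∀ i, Ideal.Quotient.mk _ (c i) = X.coef η i) →
    η = ∑ i, X.r (c i) • KaehlerDifferential.D A B (X.y i) := by
  have key : ∀ c c' : Fin n → (MvPolynomial (Fin n) A), (∀ i, Ideal.Quotient.mk (powIdeal p (RingHom.ker X.r)) (c i) = Ideal.Quotient.mk _ (c' i)) →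
      (∑ i, X.r (c i) • KaehlerDifferential.D A B (X.y i)) = ∑ i, X.r (c' i) • KaehlerDifferential.D A B (X.y i) := by
    intro c c' h
    refine Finset.sum_congr rfl fun i _ => ?_
    congr 1
    rw [← sub_eq_zero, ← map_sub]
    exact map_powIdeal_le X _ (Ideal.Quotient.eq.1 (h i))
  refine Submodule.span_induction (p := fun η _ => ∀ c : Fin n → (MvPolynomial (Fin n) A),
      (∀ i, Ideal.Quotient.mk _ (c i) = X.coef η i) → η = ∑ i, X.r (c i) • KaehlerDifferential.D A B (X.y i))
    ?_ ?_ ?_ ?_ ((KaehlerDifferential.span_range_derivation A B).ge trivial : η ∈ _)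
  · rintro _ ⟨b, rfl⟩ c hc
    obtain ⟨G, hG, hG'⟩ := X.exists_lift b
    rw [key c (fun i => pderiv i G) fun i => by rw [hc, X.coef_D, ← hG, pd_mk], ← X.D_r, hG']
  · intro c hc
    rw [key c (fun _ => 0) fun i => by rw [hc, X.coef_zero, map_zero]]
    simp
  · intro η θ _ _ hη hθ c hc
    choose a ha using fun i => Ideal.Quotient.mk_surjective (X.coef η i)
    choose b hb using fun i => Ideal.Quotient.mk_surjective (X.coef θ i)
    rw [key c (fun i => a i + b i) fun i => by rw [hc, X.coef_add, map_add, ha, hb], hη a ha |>.trans rfl]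
    conv_lhs => rw [hθ b hb]
    simp only [map_add, add_smul, Finset.sum_add_distrib]
  · intro b η _ hη c hc
    obtain ⟨G, hG, hG'⟩ := X.exists_lift b
    choose a ha using fun i => Ideal.Quotient.mk_surjective (X.coef η i)
    rw [key c (fun i => G * a i) fun i => by rw [hc, X.coef_smul, map_mul, hG, ha]]
    conv_lhs => rw [hη a ha]
    simp only [map_mul, hG', mul_smul, Finset.smul_sum]
where
  map_powIdeal_le (X : Pres p A B n) (c : (MvPolynomial (Fin n) A)) (hc : c ∈ powIdeal p (RingHom.ker X.r)) : X.r c = 0 := by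
    refine (show powIdeal p (RingHom.ker X.r) ≤ RingHom.ker X.r from Ideal.map_le_iff_le_comap.2 fun f hf => ?_) hc
    rw [Ideal.mem_comap, frobenius_def]
    exact Ideal.pow_mem_of_mem _ hf p hp.out.pos

/-- The curl of a coefficient vector, as a functional on two-forms. -/
noncomputable def two (i j : Fin n) : ↥(⋀[B]^2 (Ω[B⁄A])) → Q p (RingHom.ker X.r) :=
  letI := X.s.toRingHom.toAlgebra
  fun ξ => exteriorPower.alternatingMapLinearEquiv (R := B) (n := 2)
    ({ toFun := fun v => X.coef (v 0) i * X.coef (v 1) j - X.coef (v 0) j * X.coef (v 1) i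
       map_update_add' := fun v k x y => by
        fin_cases k <;> simp [X.coef_add] <;> ring
       map_update_smul' := fun v k b x => by
        fin_cases k <;> simp [X.coef_smul, Algebra.smul_def] <;> ring!
       map_eq_zero_of_eq' := fun v a b h hab => by
        fin_cases a <;> fin_cases b <;> first | exact absurd rfl hab | (simp_all; try ring) } :
      (Ω[B⁄A]) [⋀^Fin 2]→ₗ[B] Q p (RingHom.ker X.r)) ξ

theorem two_ιMulti (i j : Fin n) (v : Fin 2 → Ω[B⁄A]) : X.two i j (ιMulti B 2 v) =
    X.coef (v 0) i * X.coef (v 1) j - X.coef (v 0) j * X.coef (v 1) i := by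
  letI := X.s.toRingHom.toAlgebra
  exact exteriorPower.alternatingMapLinearEquiv_apply_ιMulti _ _

theorem two_zero (i j : Fin n) : X.two i j 0 = 0 := by
  simp [two]

theorem two_add (i j : Fin n) (ξ ξ' : ↥(⋀[B]^2 (Ω[B⁄A]))) : X.two i j (ξ + ξ') = X.two i j ξ + X.two i j ξ' := by
  simp [two]

variable (d : ∀ q : ℕ, ↥(⋀[B]^q (Ω[B⁄A])) →ₗ[A] ↥(⋀[B]^(q + 1) (Ω[B⁄A])))
  (hd : DeRham.IsDiff (KaehlerDifferential.D A B) d)

include hd in
theorem two_d (i j : Fin n) (ω : ↥(⋀[B]^1 (Ω[B⁄A]))) :
    X.two i j (d 1 ω) = pd p _ i (X.coef (oneEquiv B _ ω) j) - pd p _ j (X.coef (oneEquiv B _ ω) i) := by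
  refine H27DR.gen_induction (KaehlerDifferential.D A B) (H27DR.kaehler_span A B) 1
    (P := fun ω => X.two i j (d 1 ω) = pd p _ i (X.coef (oneEquiv B _ ω) j) - pd p _ j (X.coef (oneEquiv B _ ω) i))
    ?_ ?_ ?_ ω
  · intro b₀ b
    rw [hd.1, X.two_ιMulti, DeRham.gen, map_smul, oneEquiv_ιMulti, X.coef_smul, X.coef_smul, pd_mul, pd_mul,
      X.coef_D, X.coef_D, pd_comm i j]
    simp [X.coef_D]
    ring
  · simp [two_zero, coef_zero]
  · intro x y hx hy
    simp only [map_add, X.two_add, hx, hy, X.coef_add]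
    ring

end Pres

end Groth.Agent.H27Cartier
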