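import Mathlib

/-!
# Closed one-forms on a polynomial ring in characteristic `p`, modulo `p`-th powers of an ideal

For a perfect ring `A` of characteristic `p`, `P = A[x_1, …, x_n]`, an ideal `I` of `P` and `J = I^{[p]}`:
a coefficient vector `c` with `∂_j c_i - ∂_i c_j ∈ J` is `∂ h + g^p x^(p-1)` modulo `J`, and
`g^p x^(p-1) ≡ ∂ h` modulo `J` forces `g ∈ I`.
-/

set_option autoImplicit false
universe u

open MvPolynomial

namespace Groth.Agent.H27Cartier

variable {p : ℕ} [hp : Fact p.Prime] {A : Type u} [CommRing A] [CharP A p] {n : ℕ}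


/-- An operator acting monomial by monomial. -/
noncomputable def op (w : (Fin n →₀ ℕ) → A) (σ : (Fin n →₀ ℕ) → (Fin n →₀ ℕ)) : (MvPolynomial (Fin n) A) →ₗ[A] (MvPolynomial (Fin n) A) :=
  (MvPolynomial.basisMonomials (Fin n) A).constr A fun m => monomial (σ m) (w m)

theorem op_monomial (w : (Fin n →₀ ℕ) → A) (σ : (Fin n →₀ ℕ) → (Fin n →₀ ℕ)) (m : (Fin n →₀ ℕ)) (a : A) :
    op w σ (monomial m a) = monomial (σ m) (a * w m) := by
  have h : monomial m a = a • monomial m (1 : A) := by rw [smul_monomial, smul_eq_mul, mul_one]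
  have h' := (MvPolynomial.basisMonomials (Fin n) A).constr_basis A (fun m => monomial (σ m) (w m)) m
  rw [MvPolynomial.coe_basisMonomials] at h'
  rw [h, map_smul, op, h', smul_monomial, smul_eq_mul]

/-- An operator with periodic weights commutes with multiplication by `p`-th powers. -/
theorem op_pow_mul (w : (Fin n →₀ ℕ) → A) (σ : (Fin n →₀ ℕ) → (Fin n →₀ ℕ)) (hw : ∀ m q, w (m + p • q) = w m)
    (hσ : ∀ m q, σ (m + p • q) = σ m + p • q) (f c : (MvPolynomial (Fin n) A)) : op w σ (f ^ p * c) = f ^ p * op w σ c := by
  induction f using MvPolynomial.induction_on' with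
  | add f g hf hg =>
    simp only [add_pow_char f g p, add_mul, map_add, hf, hg]
  | monomial q a =>
    induction c using MvPolynomial.induction_on' with
    | add c d hc hd => simp only [mul_add, map_add, hc, hd]
    | monomial m b =>
      rw [monomial_pow, monomial_mul, op_monomial, op_monomial, monomial_mul, add_comm (p • q) m, hw, hσ,
        add_comm (σ m), mul_assoc]

theorem op_id_comp (w w' : (Fin n →₀ ℕ) → A) (c : (MvPolynomial (Fin n) A)) : op w id (op w' id c) = op (fun m => w m * w' m) id c := by
  induction c using MvPolynomial.induction_on' with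
  | add c d hc hd => simp only [map_add, hc, hd]
  | monomial m b => simp only [op_monomial, id]; ring_nf

theorem op_congr {w w' : (Fin n →₀ ℕ) → A} {σ : (Fin n →₀ ℕ) → (Fin n →₀ ℕ)} (h : ∀ m, w m = w' m) (c : (MvPolynomial (Fin n) A)) : op w σ c = op w' σ c := by
  rw [funext h]

theorem pderiv_pow_mul (l : Fin n) (f c : (MvPolynomial (Fin n) A)) : pderiv l (f ^ p * c) = f ^ p * pderiv l c := by
  rw [Derivation.leibniz, Derivation.leibniz_pow, CharP.cast_eq_zero_iff (MvPolynomial (Fin n) A) p p |>.2 dvd_rfl |> fun h =>
    (show ∀ x : (MvPolynomial (Fin n) A), p • x = 0 from fun x => by rw [nsmul_eq_mul, h, zero_mul])]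
  simp

theorem pderiv_comm (i j : Fin n) (c : (MvPolynomial (Fin n) A)) : pderiv i (pderiv j c) = pderiv j (pderiv i c) := by
  induction c using MvPolynomial.induction_on' with
  | add c d hc hd => simp only [map_add, hc, hd]
  | monomial m b =>
    simp only [pderiv_monomial]
    rcases eq_or_ne i j with rfl | hij
    · rfl
    · rw [show (m - Finsupp.single j 1) - Finsupp.single i 1 = m - Finsupp.single i 1 - Finsupp.single j 1 from
        tsub_right_comm]
      simp [Finsupp.tsub_apply, hij, hij.symm, mul_comm, mul_left_comm, mul_assoc]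

variable (p) in
/-- The ideal generated by the `p`-th powers of an ideal. -/
noncomputable def powIdeal (I : Ideal (MvPolynomial (Fin n) A)) : Ideal (MvPolynomial (Fin n) A) := I.map (frobenius (MvPolynomial (Fin n) A) p)

variable {I : Ideal (MvPolynomial (Fin n) A)}

theorem pow_mem_powIdeal {f : (MvPolynomial (Fin n) A)} (hf : f ∈ I) : f ^ p ∈ powIdeal p I := Ideal.mem_map_of_mem _ hf

theorem map_mem_powIdeal (T : (MvPolynomial (Fin n) A) →+ (MvPolynomial (Fin n) A)) (hT : ∀ f c : (MvPolynomial (Fin n) A), T (f ^ p * c) = f ^ p * T c) {c : (MvPolynomial (Fin n) A)}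
    (hc : c ∈ powIdeal p I) : T c ∈ powIdeal p I := by
  suffices ∀ r : (MvPolynomial (Fin n) A), T (r * c) ∈ powIdeal p I by simpa using this 1
  refine Submodule.span_induction (p := fun c _ => ∀ r : (MvPolynomial (Fin n) A), T (r * c) ∈ powIdeal p I) ?_ ?_ ?_ ?_ hc
  · rintro _ ⟨f, hf, rfl⟩ r
    rw [mul_comm, frobenius_def, hT]
    exact Ideal.mul_mem_right _ _ (pow_mem_powIdeal hf)
  · intro r; simp
  · intro x y _ _ hx hy r
    rw [mul_add, map_add]
    exact add_mem (hx r) (hy r)
  · intro a x _ hx r
    rw [smul_eq_mul, ← mul_assoc]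
    exact hx _

theorem pderiv_mem_powIdeal (l : Fin n) {c : (MvPolynomial (Fin n) A)} (hc : c ∈ powIdeal p I) : pderiv l c ∈ powIdeal p I :=
  map_mem_powIdeal (pderiv l).toLinearMap.toAddMonoidHom (pderiv_pow_mul l) hc

variable (p) in
/-- `1` if `z = 0` and `0` otherwise. -/
noncomputable def ind (z : ZMod p) : A := if z = 0 then 1 else 0

theorem ind_sq (z : ZMod p) : (ind p z : A) * ind p z = ind p z := by
  unfold ind; split <;> simp

variable (p) in
/-- The inverse of a natural number modulo `p`, zero on multiples of `p`. -/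
noncomputable def inv' (z : ℕ) : A := ZMod.castHom (dvd_refl p) A (z : ZMod p)⁻¹

theorem natCast_mul_inv' (z : ℕ) : (z : A) * inv' p z = 1 - ind p (z : ZMod p) := by
  rw [inv', ← map_natCast (ZMod.castHom (dvd_refl p) A) z, ← map_mul]
  by_cases h : (z : ZMod p) = 0
  · simp [h, ind]
  · simp [h, ind]

theorem natCast_add_period (m q : (Fin n →₀ ℕ)) (k : Fin n) : (((m + p • q) k : ℕ) : ZMod p) = ((m k : ℕ) : ZMod p) := by
  simp

variable (p) in
/-- Integration in the variable `k`. -/
noncomputable def integ (k : Fin n) : (MvPolynomial (Fin n) A) →ₗ[A] (MvPolynomial (Fin n) A) :=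
  op (fun m => inv' p (m k + 1)) fun m => m + Finsupp.single k 1

theorem integ_pow_mul (k : Fin n) (f c : (MvPolynomial (Fin n) A)) : integ p k (f ^ p * c) = f ^ p * integ p k c :=
  op_pow_mul _ _ (fun m q => by simp only [inv', Nat.cast_add, natCast_add_period])
    (fun m q => by rw [add_right_comm]) f c

theorem integ_mem_powIdeal (k : Fin n) {c : (MvPolynomial (Fin n) A)} (hc : c ∈ powIdeal p I) : integ p k c ∈ powIdeal p I :=
  map_mem_powIdeal (integ p k).toAddMonoidHom (integ_pow_mul k) hc

variable (p) in
/-- The exponent wanted in position `k` of the component `l`. -/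
def tgt (l k : Fin n) : ℕ := if k = l then 1 else 0

variable (p) in
/-- The projection on monomials with the wanted exponent modulo `p` in position `k` of the component `l`. -/
noncomputable def proj (l k : Fin n) : (MvPolynomial (Fin n) A) →ₗ[A] (MvPolynomial (Fin n) A) :=
  op (fun m => ind p ((m k + tgt l k : ℕ) : ZMod p)) id

theorem proj_idem (l k : Fin n) (c : (MvPolynomial (Fin n) A)) : proj p l k (proj p l k c) = proj p l k c := by
  rw [proj, op_id_comp]; exact op_congr (fun m => ind_sq _) c

theorem proj_comm (l k k' : Fin n) (c : (MvPolynomial (Fin n) A)) : proj p l k (proj p l k' c) = proj p l k' (proj p l k c) := by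
  rw [proj, proj, op_id_comp, op_id_comp]; exact op_congr (fun m => mul_comm _ _) c

theorem pderiv_integ_self (k : Fin n) (c : (MvPolynomial (Fin n) A)) : pderiv k (integ p k c) = c - proj p k k c := by
  induction c using MvPolynomial.induction_on' with
  | add c d hc hd => simp only [map_add, hc, hd]; ring
  | monomial m b =>
    rw [integ, proj, op_monomial, op_monomial, pderiv_monomial]
    simp only [id, tgt, if_true, Finsupp.add_apply, Finsupp.single_eq_same, add_tsub_cancel_right]
    rw [← map_sub, mul_assoc, mul_comm (inv' p (m k + 1)), natCast_mul_inv', mul_sub, mul_one]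

theorem integ_pderiv_self {l k : Fin n} (hlk : k ≠ l) (c : (MvPolynomial (Fin n) A)) : integ p k (pderiv k c) = c - proj p l k c := by
  induction c using MvPolynomial.induction_on' with
  | add c d hc hd => simp only [map_add, hc, hd]; ring
  | monomial m b =>
    rw [pderiv_monomial, integ, proj, op_monomial, op_monomial]
    simp only [id, tgt, if_neg hlk, add_zero, Finsupp.tsub_apply, Finsupp.single_eq_same]
    rcases Nat.eq_zero_or_pos (m k) with h | h
    · simp [h, ind]
    · rw [Nat.sub_add_cancel h, mul_assoc, natCast_mul_inv', mul_sub, mul_one,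
        tsub_add_cancel_of_le (Finsupp.single_le_iff.2 h), map_sub]

theorem pderiv_integ_comm {l k : Fin n} (hlk : k ≠ l) (c : (MvPolynomial (Fin n) A)) :
    pderiv l (integ p k c) = integ p k (pderiv l c) := by
  induction c using MvPolynomial.induction_on' with
  | add c d hc hd => simp only [map_add, hc, hd]
  | monomial m b =>
    simp only [integ, op_monomial, pderiv_monomial, Finsupp.add_apply, Finsupp.tsub_apply,
      Finsupp.single_eq_of_ne hlk, Finsupp.single_eq_of_ne hlk.symm, add_zero, tsub_zero]
    rcases Nat.eq_zero_or_pos (m l) with h | h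
    · simp [h]
    · rw [tsub_add_eq_add_tsub (Finsupp.single_le_iff.2 h)]
      ring_nf

/-- Reduction of a closed coefficient vector in the variables of a finite set. -/
theorem exists_reduced (S : Finset (Fin n)) (c : Fin n → (MvPolynomial (Fin n) A))
    (hc : ∀ i j, pderiv j (c i) - pderiv i (c j) ∈ powIdeal p I) :
    ∃ (h : (MvPolynomial (Fin n) A)) (c' : Fin n → (MvPolynomial (Fin n) A)), (∀ l, c l - pderiv l h - c' l ∈ powIdeal p I) ∧
      (∀ i j, pderiv j (c' i) - pderiv i (c' j) ∈ powIdeal p I) ∧
      ∀ l, ∀ k ∈ S, proj p l k (c' l) = c' l := by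
  induction S using Finset.induction with
  | empty => exact ⟨0, c, fun l => by simp, hc, fun l k hk => absurd hk (Finset.notMem_empty k)⟩
  | @insert k S _ ih =>
    obtain ⟨h, c', h1, h2, h3⟩ := ih
    have hd : ∀ l, c' l - pderiv l (integ p k (c' k)) - proj p l k (c' l) ∈ powIdeal p I := fun l => by
      rcases eq_or_ne k l with rfl | hkl
      · rw [pderiv_integ_self]
        simp
      · rw [pderiv_integ_comm hkl]
        have := integ_mem_powIdeal (p := p) (I := I) k (h2 l k)
        rw [map_sub, integ_pderiv_self hkl] at this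
        convert this using 1
        ring
    refine ⟨h + integ p k (c' k), fun l => proj p l k (c' l), fun l => ?_, fun i j => ?_, fun l k' hk' => ?_⟩
    · have := add_mem (h1 l) (hd l)
      rw [map_add]
      convert this using 1
      ring
    · have hi := pderiv_mem_powIdeal (p := p) j (hd i)
      have hj := pderiv_mem_powIdeal (p := p) i (hd j)
      rw [map_sub, map_sub] at hi hj
      have := sub_mem (h2 i j) (sub_mem hi hj)
      convert this using 1
      rw [pderiv_comm j i]
      ring
    · rcases Finset.mem_insert.1 hk' with rfl | hk'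
      · exact proj_idem l k' _
      · rw [proj_comm, h3 l k' hk']

variable (p) in
/-- The projection on the monomials `x^(p m) x_l^(p-1)`. -/
noncomputable def projAll (l : Fin n) : (MvPolynomial (Fin n) A) →ₗ[A] (MvPolynomial (Fin n) A) :=
  op (fun m => ∏ k, ind p ((m k + tgt l k : ℕ) : ZMod p)) id

theorem projAll_eq_self (l : Fin n) (c : (MvPolynomial (Fin n) A)) (h : ∀ k, proj p l k c = c) : projAll p l c = c := by
  suffices ∀ S : Finset (Fin n), op (fun m => ∏ k ∈ S, ind p ((m k + tgt l k : ℕ) : ZMod p)) id c = c from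
    this Finset.univ
  intro S
  induction S using Finset.induction with
  | empty =>
    simp only [Finset.prod_empty]
    clear h
    induction c using MvPolynomial.induction_on' with
    | add c d hc hd => rw [map_add, hc, hd]
    | monomial m b => simp [op_monomial]
  | @insert k S hk ih =>
    have h' : op (fun m => ind p ((m k + tgt l k : ℕ) : ZMod p)) id
        (op (fun m => ∏ k ∈ S, ind p ((m k + tgt l k : ℕ) : ZMod p)) id c) = c := by
      rw [ih]; exact h k
    rw [op_id_comp] at h'
    exact (op_congr (fun m => Finset.prod_insert hk) c).trans h'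

variable [PerfectRing A p]

variable (p) in
/-- The exponent `m / p`. -/
noncomputable def divExp (m : (Fin n →₀ ℕ)) : (Fin n →₀ ℕ) := m.mapRange (fun j => j / p) (Nat.zero_div p)

theorem divExp_add (m q : (Fin n →₀ ℕ)) : divExp p (m + p • q) = divExp p m + q := by
  ext k
  simp [divExp, Nat.add_mul_div_left _ _ hp.out.pos]

variable (p) in
/-- The `p`-th root of the coefficient of `x_l^(p-1)` over the `p`-th powers. -/
noncomputable def root (l : Fin n) : (MvPolynomial (Fin n) A) →+ (MvPolynomial (Fin n) A) :=
  (MvPolynomial.map (frobeniusEquiv A p).symm.toRingHom).toAddMonoidHom.comp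
    (op (fun m => ∏ k, ind p ((m k + tgt l k : ℕ) : ZMod p)) (divExp p)).toAddMonoidHom

theorem root_monomial (l : Fin n) (m : (Fin n →₀ ℕ)) (a : A) :
    root p l (monomial m a) = monomial (divExp p m)
      ((frobeniusEquiv A p).symm (a * ∏ k, ind p ((m k + tgt l k : ℕ) : ZMod p))) := by
  simp [root, op_monomial, map_monomial]

theorem root_pow_mul (l : Fin n) (f c : (MvPolynomial (Fin n) A)) : root p l (f ^ p * c) = f * root p l c := by
  induction f using MvPolynomial.induction_on' with
  | add f g hf hg => simp only [add_pow_char f g p, add_mul, map_add, hf, hg]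
  | monomial q a =>
    induction c using MvPolynomial.induction_on' with
    | add c d hc hd => simp only [mul_add, map_add, hc, hd]
    | monomial m b =>
      rw [monomial_pow, monomial_mul, root_monomial, root_monomial, monomial_mul, add_comm (p • q) m, divExp_add,
        add_comm q, mul_assoc, map_mul, frobeniusEquiv_symm_pow]
      simp only [Nat.cast_add, natCast_add_period]

theorem root_X_pow (l : Fin n) : root p l (X l ^ (p - 1) : (MvPolynomial (Fin n) A)) = 1 := by
  rw [X_pow_eq_monomial, root_monomial, one_mul]
  have h1 : divExp p (Finsupp.single l (p - 1)) = 0 := by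
    ext k
    rcases eq_or_ne k l with rfl | h
    · simp [divExp, Nat.div_eq_of_lt (Nat.sub_lt hp.out.pos one_pos)]
    · simp [divExp, Finsupp.single_eq_of_ne h]
  have h2 : ∀ k, (Finsupp.single l (p - 1) k + tgt l k : ℕ) = if k = l then p else 0 := fun k => by
    rcases eq_or_ne k l with rfl | h
    · simp [tgt, Nat.sub_add_cancel hp.out.one_le]
    · simp [tgt, h, Finsupp.single_eq_of_ne h]
  rw [h1, Finset.prod_eq_one fun k _ => by rw [h2 k]; split <;> simp [ind], map_one]
  rfl

theorem root_mem {l : Fin n} {c : (MvPolynomial (Fin n) A)} (hc : c ∈ powIdeal p I) : root p l c ∈ I := by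
  suffices ∀ r : (MvPolynomial (Fin n) A), root p l (r * c) ∈ I by simpa using this 1
  refine Submodule.span_induction (p := fun c _ => ∀ r : (MvPolynomial (Fin n) A), root p l (r * c) ∈ I) ?_ ?_ ?_ ?_ hc
  · rintro _ ⟨f, hf, rfl⟩ r
    rw [mul_comm, frobenius_def, root_pow_mul]
    exact Ideal.mul_mem_right _ _ hf
  · intro r; simp
  · intro x y _ _ hx hy r
    rw [mul_add, map_add]
    exact add_mem (hx r) (hy r)
  · intro a x _ hx r
    rw [smul_eq_mul, ← mul_assoc]
    exact hx _

theorem projAll_eq_root (l : Fin n) (c : (MvPolynomial (Fin n) A)) : projAll p l c = (root p l c) ^ p * X l ^ (p - 1) := by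
  induction c using MvPolynomial.induction_on' with
  | add c d hc hd => simp only [map_add, hc, hd, add_pow_char _ _ p, add_mul]
  | monomial m b =>
    rw [projAll, op_monomial, root_monomial, monomial_pow, frobeniusEquiv_symm_pow_p, X_pow_eq_monomial,
      monomial_mul, mul_one, id]
    by_cases h : ∀ k, ((m k + tgt l k : ℕ) : ZMod p) = 0
    · congr 1
      congr 1
      ext k
      obtain ⟨t, ht⟩ := (ZMod.natCast_eq_zero_iff _ _).1 (h k)
      have hp2 := hp.out.two_le
      rcases eq_or_ne k l with rfl | hk
      · simp only [tgt, if_true] at ht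
        obtain ⟨t, rfl⟩ : ∃ t', t = t' + 1 := ⟨t - 1, by rcases t with _ | t <;> simp_all⟩
        have hm : m k = (p - 1) + p * t := by rw [mul_add, mul_one] at ht; omega
        simp [divExp, hm, Nat.add_mul_div_left _ _ hp.out.pos, Nat.div_eq_of_lt (show p - 1 < p by omega)]
        ring
      · simp only [tgt, if_neg hk, add_zero] at ht
        simp [divExp, ht, Nat.mul_div_cancel_left _ hp.out.pos, Finsupp.single_eq_of_ne hk]
    · obtain ⟨k, hk⟩ := not_forall.1 h
      rw [Finset.prod_eq_zero (Finset.mem_univ k) (if_neg hk), mul_zero]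
      simp

/-- Closed coefficient vectors modulo `J`. -/
theorem exists_decomp (c : Fin n → (MvPolynomial (Fin n) A)) (hc : ∀ i j, pderiv j (c i) - pderiv i (c j) ∈ powIdeal p I) :
    ∃ (h : (MvPolynomial (Fin n) A)) (g : Fin n → (MvPolynomial (Fin n) A)), ∀ l, c l - pderiv l h - g l ^ p * X l ^ (p - 1) ∈ powIdeal p I := by
  obtain ⟨h, c', h1, -, h3⟩ := exists_reduced (p := p) Finset.univ c hc
  refine ⟨h, fun l => root p l (c' l), fun l => ?_⟩
  rw [← projAll_eq_root, projAll_eq_self l _ fun k => h3 l k (Finset.mem_univ k)]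
  exact h1 l

/-- Exact reduced vectors come from the ideal. -/
theorem mem_of_exact (h : (MvPolynomial (Fin n) A)) (g : Fin n → (MvPolynomial (Fin n) A)) (l : Fin n)
    (hg : g l ^ p * X l ^ (p - 1) - pderiv l h ∈ powIdeal p I) : g l ∈ I := by
  have hd : root p l (pderiv l h) = 0 := by
    clear hg
    induction h using MvPolynomial.induction_on' with
    | add c d hc hd => simp only [map_add, hc, hd, add_zero]
    | monomial m b =>
      rw [pderiv_monomial, root_monomial]
      rcases Nat.eq_zero_or_pos (m l) with h0 | h0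
      · simp [h0]
      · by_cases hm : ((m l : ℕ) : ZMod p) = 0
        · have h0' : ((m l : ℕ) : A) = 0 := by
            rw [← map_natCast (ZMod.castHom (dvd_refl p) A), hm, map_zero]
          simp [h0']
        · have : (((m - Finsupp.single l 1 : Fin n →₀ ℕ) l + tgt l l : ℕ)) = m l := by
            simp [tgt, Finsupp.tsub_apply, Nat.sub_add_cancel h0]
          rw [Finset.prod_eq_zero (Finset.mem_univ l) (if_neg (by rw [this]; exact hm))]
          simp
  have := root_mem (p := p) (l := l) hg
  rwa [map_sub, root_pow_mul, root_X_pow, hd, mul_one, sub_zero] at this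

end Groth.Agent.H27Cartier
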